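import Mathlib.CategoryTheory.Sites.Canonical
import Mathlib.CategoryTheory.Sites.LocallyBijective
import Mathlib.CategoryTheory.Adjunction.Reflective
import Mathlib.CategoryTheory.Limits.Preserves.Shapes.Pullbacks
import Mathlib.CategoryTheory.Limits.Constructions.EpiMono

/-!
# The topology of a left exact reflective subcategory of presheaves
-/

set_option autoImplicit false

universe u

open CategoryTheory CategoryTheory.Limits Opposite

namespace Groth.Agent.LexRefl

variable {C : Type u} [SmallCategory C] (P : ObjectProperty (Cᵒᵖ ⥤ Type u)) [Reflective P.ι]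

theorem isIso_map_iff {A B : Cᵒᵖ ⥤ Type u} (f : A ⟶ B) :
    IsIso ((reflector P.ι).map f) ↔
      ∀ Z : P.FullSubcategory, Function.Bijective (fun g : B ⟶ Z.obj => f ≫ g) := by
  have key : ∀ Z : P.FullSubcategory, Function.Bijective (fun g : B ⟶ Z.obj => f ≫ g) ↔
      Function.Bijective (fun g : (reflector P.ι).obj B ⟶ Z => (reflector P.ι).map f ≫ g) := by
    intro Z
    have : (fun g : (reflector P.ι).obj B ⟶ Z => (reflector P.ι).map f ≫ g) =
        ((reflectorAdjunction P.ι).homEquiv A Z).symm ∘ (fun g : B ⟶ Z.obj => f ≫ g) ∘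
          ((reflectorAdjunction P.ι).homEquiv B Z) := by
      funext g
      rw [Function.comp_apply, Function.comp_apply, ← Adjunction.homEquiv_naturality_left,
        Equiv.symm_apply_apply]
    rw [this, Equiv.comp_bijective, Equiv.bijective_comp]
  simp only [key]
  constructor
  · intro _ Z
    exact ⟨fun a b e => (cancel_epi ((reflector P.ι).map f)).1 e,
      fun g => ⟨inv ((reflector P.ι).map f) ≫ g, by simp⟩⟩
  · intro h
    obtain ⟨g, hg⟩ := (h _).2 (𝟙 _)
    refine ⟨g, hg, (h _).1 ?_⟩
    change (reflector P.ι).map f ≫ g ≫ (reflector P.ι).map f = (reflector P.ι).map f ≫ 𝟙 _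
    rw [← Category.assoc]
    exact (congrArg (· ≫ _) hg).trans ((Category.id_comp _).trans (Category.comp_id _).symm)

theorem isIso_map_sieve_iff {X : C} (S : Sieve X) :
    IsIso ((reflector P.ι).map S.functorInclusion) ↔
      ∀ Z : P.FullSubcategory, Presieve.IsSheafFor Z.obj (S : Presieve X) := by
  rw [isIso_map_iff]
  refine forall_congr' fun Z => ?_
  rw [Presieve.isSheafFor_iff_yonedaSheafCondition, Function.bijective_iff_existsUnique]
  rfl

variable [PreservesFiniteLimits (reflector P.ι)]

theorem isIso_map_sieve_of_factor {X : C} (S : Sieve X) {W : Cᵒᵖ ⥤ Type u} (q : W ⟶ yoneda.obj X)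
    [IsIso ((reflector P.ι).map q)] (h : ∀ (d : Cᵒᵖ) (z : W.obj d), S (q.app d z)) :
    IsIso ((reflector P.ι).map S.functorInclusion) := by
  let l : W ⟶ S.functor :=
    { app := fun d => TypeCat.ofHom fun z => ⟨q.app d z, h d z⟩
      naturality := fun d e g => by
        ext z
        exact Subtype.ext (show q.app e (W.map g z) = (yoneda.obj X).map g (q.app d z) from
          NatTrans.naturality_apply q g z) }
  have hl : (reflector P.ι).map l ≫ (reflector P.ι).map S.functorInclusion = (reflector P.ι).map q := by
    rw [← Functor.map_comp]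
    rfl
  have : IsSplitEpi ((reflector P.ι).map S.functorInclusion) :=
    ⟨⟨⟨inv ((reflector P.ι).map q) ≫ (reflector P.ι).map l, by rw [Category.assoc, hl, IsIso.inv_hom_id]⟩⟩⟩
  exact isIso_of_mono_of_isSplitEpi _

theorem isIso_map_sieve_pullback {X Y : C} (S : Sieve X) (f : Y ⟶ X)
    [IsIso ((reflector P.ι).map S.functorInclusion)] :
    IsIso ((reflector P.ι).map (S.pullback f).functorInclusion) := by
  have sq := (IsPullback.of_hasPullback S.functorInclusion (yoneda.map f)).map (reflector P.ι)
  have : IsIso ((reflector P.ι).map (pullback.snd S.functorInclusion (yoneda.map f))) :=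
    sq.isIso_snd_of_isIso
  refine isIso_map_sieve_of_factor P (S.pullback f) (pullback.snd S.functorInclusion (yoneda.map f))
    fun d z => ?_
  have e := congrArg (fun t => t.app d z)
    (pullback.condition (f := S.functorInclusion) (g := yoneda.map f))
  have e' : ((pullback.fst S.functorInclusion (yoneda.map f)).app d z).1 =
      (pullback.snd S.functorInclusion (yoneda.map f)).app d z ≫ f := e
  rw [Sieve.pullback_apply, ← e']
  exact ((pullback.fst S.functorInclusion (yoneda.map f)).app d z).2

/-- The topology. -/
def topology : GrothendieckTopology C where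
  sieves X := {S | IsIso ((reflector P.ι).map S.functorInclusion)}
  top_mem' X := inferInstanceAs (IsIso ((reflector P.ι).map (⊤ : Sieve X).functorInclusion))
  pullback_stable' _ _ S f (_ : IsIso _) := isIso_map_sieve_pullback P S f
  transitive' X S (hS : IsIso _) R hR := (isIso_map_sieve_iff P R).2 fun Z =>
    Presieve.isSheafFor_trans Z.obj S R ((isIso_map_sieve_iff P S).1 hS Z)
      (fun Y f _ => ((isIso_map_sieve_iff P (S.pullback f)).1 (isIso_map_sieve_pullback P S f) Z).isSeparatedFor)
      (fun Y f hf => (isIso_map_sieve_iff P (R.pullback f)).1 (hR hf) Z)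

theorem mem_topology {X : C} (S : Sieve X) :
    S ∈ topology P X ↔ IsIso ((reflector P.ι).map S.functorInclusion) := Iff.rfl

theorem isLocallyInjective {A B : Cᵒᵖ ⥤ Type u} (f : A ⟶ B) [IsIso ((reflector P.ι).map f)] :
    Presheaf.IsLocallyInjective (topology P) f := by
  refine ⟨fun {X} x y e => ?_⟩
  let a : yoneda.obj X.unop ⟶ A := yonedaEquiv.symm x
  let b : yoneda.obj X.unop ⟶ A := yonedaEquiv.symm y
  have hab : (reflector P.ι).map a = (reflector P.ι).map b := by
    rw [← cancel_mono ((reflector P.ι).map f), ← Functor.map_comp, ← Functor.map_comp]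
    refine congrArg _ (yonedaEquiv.injective ?_)
    rw [yonedaEquiv_comp, yonedaEquiv_comp, Equiv.apply_symm_apply, Equiv.apply_symm_apply]
    exact e
  have : IsIso ((reflector P.ι).map (equalizer.ι a b)) :=
    isIso_limit_cone_parallelPair_of_eq hab
      (isLimitForkMapOfIsLimit (reflector P.ι) (equalizer.condition a b) (equalizerIsEqualizer a b))
  refine isIso_map_sieve_of_factor P _ (equalizer.ι a b) fun d z => ?_
  exact congrArg (fun t => t.app d z) (equalizer.condition a b)

theorem isLocallySurjective {A B : Cᵒᵖ ⥤ Type u} (f : A ⟶ B) [IsIso ((reflector P.ι).map f)] :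
    Presheaf.IsLocallySurjective (topology P) f := by
  refine ⟨fun {U} s => ?_⟩
  let b : yoneda.obj U ⟶ B := yonedaEquiv.symm s
  have sq := (IsPullback.of_hasPullback f b).map (reflector P.ι)
  have : IsIso ((reflector P.ι).map (pullback.snd f b)) := sq.isIso_snd_of_isIso
  refine isIso_map_sieve_of_factor P _ (pullback.snd f b) fun d z => ?_
  exact ⟨(pullback.fst f b).app d z, congrArg (fun t => t.app d z) (pullback.condition (f := f) (g := b))⟩

theorem isSheaf_iff [P.IsClosedUnderIsomorphisms] (F : Cᵒᵖ ⥤ Type u) :
    P F ↔ Presieve.IsSheaf (topology P) F := by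
  constructor
  · intro hF X S hS
    exact (isIso_map_sieve_iff P S).1 hS ⟨F, hF⟩
  · intro hF
    let η := (reflectorAdjunction P.ι).unit.app F
    let Z := (reflector P.ι).obj F
    have hη : IsIso ((reflector P.ι).map η) := by
      have e := (reflectorAdjunction P.ι).left_triangle_components F
      have : IsIso ((reflectorAdjunction P.ι).counit.app Z) := inferInstance
      exact ⟨(reflectorAdjunction P.ι).counit.app Z, e, by
        rw [← cancel_mono ((reflectorAdjunction P.ι).counit.app Z), Category.assoc]
        exact (congrArg (_ ≫ ·) e).trans ((Category.comp_id _).trans (Category.id_comp _).symm)⟩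
    let G : Sheaf (topology P) (Type u) := ⟨F, (isSheaf_iff_isSheaf_of_type _ _).2 hF⟩
    let H : Sheaf (topology P) (Type u) := ⟨Z.obj, (isSheaf_iff_isSheaf_of_type _ _).2
      fun X S hS => (isIso_map_sieve_iff P S).1 hS Z⟩
    let g : G ⟶ H := ⟨η⟩
    have : Sheaf.IsLocallyInjective g := isLocallyInjective P η
    have : Sheaf.IsLocallySurjective g := isLocallySurjective P η
    have := (Sheaf.isLocallyBijective_iff_isIso g).1 ⟨inferInstance, inferInstance⟩
    exact P.prop_of_iso ((sheafToPresheaf _ _).mapIso (asIso g)).symm Z.property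

end Groth.Agent.LexRefl
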